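import Groth.Agent.L25.Bridge.MultType
import Groth.Agent.L25.Char.EtaleSplit
import Groth.Agent.L25.Char.DescentQuasi
import Groth.Agent.L25.Char.SpreadLocal
import Groth.Agent.L25.HomSmooth.Main
import Groth.Agent.L25.MultType.Cover

/-!
# Groups of multiplicative type and of finite type lift along nilpotent ideals
-/

set_option autoImplicit false
universe u

open CategoryTheory CategoryTheory.Limits MonoidalCategory CartesianMonoidalCategory
open AlgebraicGeometry TensorProduct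

set_option backward.isDefEq.respectTransparency.types false

noncomputable section

namespace Groth.L25.Bridge

variable {R : Type u} [CommRing R]

/-- an affine group is the spectrum of a Hopf algebra -/
theorem exists_hopf (H : Over (Spec (CommRingCat.of R))) [GrpObj H] [IsAffine H.left] :
    ∃ (A : Type u) (_ : CommRing A) (_ : HopfAlgebra R A), Nonempty (Grp.mk H ≅ Grp.mk (P R A)) := by
  obtain ⟨A, ⟨e⟩⟩ := (essImage_hopfSpec (G := Grp.mk H)).mpr ‹IsAffine H.left›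
  exact ⟨A.unop, inferInstance, inferInstance, ⟨e.symm⟩⟩

theorem locally_of_iso {S : Scheme.{u}} {H H' : Over S} [GrpObj H] [GrpObj H'] (e : Grp.mk H ≅ Grp.mk H')
    (hH : TwC.Locally S TwC.Topology.fpqc (fun S' f => ∃ (M : Type) (_ : AddCommGroup M),
      Nonempty (Grp.mk (Red.bc f H) ≅ Grp.mk (Red.DS S' M)))) :
    TwC.Locally S TwC.Topology.fpqc (fun S' f => ∃ (M : Type) (_ : AddCommGroup M),
      Nonempty (Grp.mk (Red.bc f H') ≅ Grp.mk (Red.DS S' M))) := by
  obtain ⟨S', f, hflat, hsurj, hqc, hloc⟩ := hH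
  refine ⟨S', f, hflat, hsurj, hqc, fun s => ?_⟩
  obtain ⟨W, hsW, M, inst, ⟨d⟩⟩ := hloc s
  exact ⟨W, hsW, M, inst, ⟨((Over.pullback (W.ι ≫ f)).mapGrp.mapIso e).symm ≪≫ d⟩⟩

theorem isMultTypeFT_of_iso {S : Scheme.{u}} {H H' : Over S} [GrpObj H] [GrpObj H'] (e : Grp.mk H ≅ Grp.mk H')
    (hH : SGA3x.IsMultTypeFT H) : SGA3x.IsMultTypeFT H' := by
  obtain ⟨S', f, hflat, hsurj, hqc, hloc⟩ := hH
  refine ⟨S', f, hflat, hsurj, hqc, fun s => ?_⟩
  obtain ⟨W, hsW, M, inst, hfg, ⟨d⟩⟩ := hloc s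
  exact ⟨W, hsW, M, inst, hfg, ⟨((Over.pullback (W.ι ≫ f)).mapGrp.mapIso e).symm ≪≫ d⟩⟩

theorem exists_group_lift {I : Ideal R} (hI : IsNilpotent I) (H₀ : Over (Spec (CommRingCat.of (R ⧸ I))))
    [GrpObj H₀] [LocallyOfFiniteType H₀.hom]
    (hH₀ : TwC.Locally (Spec (CommRingCat.of (R ⧸ I))) TwC.Topology.fpqc (fun S' f =>
      ∃ (M : Type) (_ : AddCommGroup M), Nonempty (Grp.mk (Red.bc f H₀) ≅ Grp.mk (Red.DS S' M)))) :
    ∃ (H : Over (Spec (CommRingCat.of R))) (_ : GrpObj H), SGA3x.IsMultTypeFT H ∧ Flat H.hom ∧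
      Nonempty (Grp.mk (Red.bc (Spec.map (CommRingCat.ofHom (Ideal.Quotient.mk I))) H) ≅ Grp.mk H₀) := by
  have := HomSmooth.isAffineHom_of_locally hH₀
  have : IsAffine H₀.left := isAffine_of_isAffineHom H₀.hom
  obtain ⟨B, _, _, ⟨e₀⟩⟩ := exists_hopf H₀
  have hft : Algebra.FiniteType (R ⧸ I) B := by
    have : IsIso e₀.inv.hom.hom := ⟨e₀.hom.hom.hom, congr($(e₀.inv_hom_id).hom.hom), congr($(e₀.hom_inv_id).hom.hom)⟩
    have : IsIso e₀.inv.hom.hom.left := inferInstanceAs (IsIso ((Over.forget _).map e₀.inv.hom.hom))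
    have h : LocallyOfFiniteType (P (R ⧸ I) B).hom := by
      rw [← Over.w e₀.inv.hom.hom]
      infer_instance
    change LocallyOfFiniteType (Spec.map (CommRingCat.ofHom (algebraMap (R ⧸ I) B))) at h
    rw [HasRingHomProperty.Spec_iff (P := @LocallyOfFiniteType), CommRingCat.hom_ofHom,
      RingHom.finiteType_algebraMap] at h
    exact h
  have hnil : ∀ x ∈ I, IsNilpotent x := fun x hx => by
    obtain ⟨n, hn⟩ := hI
    refine ⟨n, ?_⟩
    have h1 := Ideal.pow_mem_pow hx n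
    rwa [hn, Ideal.zero_eq_bot, Ideal.mem_bot] at h1
  obtain ⟨A, _, _, hA, ⟨e⟩⟩ := Char.Descent.exists_quasiIsotrivial_lift I hnil
    (Char.isQuasiIsotrivial (isMultType_of_locally B (locally_of_iso e₀ hH₀)))
  have : Algebra.FiniteType R A := finiteType_of_quotient hI
    (Algebra.FiniteType.equiv hft (e.symm : B ≃ₐ[R ⧸ I] (R ⧸ I) ⊗[R] A))
  refine ⟨P R A, inferInstance, isMultTypeFT_of_isMultType (Char.isMultType_of_isQuasiIsotrivial hA),
    ?_, ⟨?_⟩⟩
  · show Flat (Spec.map (CommRingCat.ofHom (algebraMap R A)))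
    rw [HasRingHomProperty.Spec_iff (P := @Flat)]
    exact RingHom.flat_algebraMap_iff.2 (MultType.flat (Char.isMultType_of_isQuasiIsotrivial hA))
  exact bcIso' A (R := R) (S := R ⧸ I) rfl ≪≫ mapIso e.symm ≪≫ e₀.symm

end Groth.L25.Bridge
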