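import Groth.Agent.L25.HomSmooth.Main
import Mathlib.RingTheory.Flat.EquationalCriterion

/-!
# Morphisms into a possibly non flat scheme which are bijective modulo a nilpotent ideal
-/

set_option autoImplicit false
universe u

open CategoryTheory CategoryTheory.Limits MonoidalCategory CartesianMonoidalCategory
open AlgebraicGeometry

set_option backward.isDefEq.respectTransparency.types false

noncomputable section

namespace Groth.L25.Bridge

/-- algebra: a map to a flat algebra which is bijective modulo a nilpotent ideal is bijective -/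
theorem bijective_of_flat {R A B : Type u} [CommRing R] [CommRing A] [CommRing B] [Algebra R A] [Algebra R B]
    [Module.Flat R B] (f : A →ₗ[R] B) {J : Ideal R} (hJ : IsNilpotent J)
    (h1 : (⊤ : Submodule R B) ≤ LinearMap.range f ⊔ J • ⊤)
    (h2 : LinearMap.ker f ≤ J • (⊤ : Submodule R A)) : Function.Bijective f := by
  obtain ⟨n, hn⟩ := hJ
  have hsurj : Function.Surjective f := by
    have key : ∀ k : ℕ, (⊤ : Submodule R B) ≤ LinearMap.range f ⊔ J ^ k • ⊤ := by
      intro k
      induction k with
      | zero => rw [pow_zero, Ideal.one_eq_top, Submodule.top_smul]; exact le_sup_right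
      | succ k ih =>
        refine ih.trans (sup_le le_sup_left ((Submodule.smul_mono le_rfl h1).trans ?_))
        rw [Submodule.smul_sup, ← Submodule.mul_smul, ← pow_succ]
        exact sup_le (le_sup_of_le_left Submodule.smul_le_right) le_sup_right
    have h := key n
    rw [hn, Ideal.zero_eq_bot, Submodule.bot_smul, sup_bot_eq] at h
    exact LinearMap.range_eq_top.1 (top_le_iff.1 h)
  have hker : LinearMap.ker f ≤ J • LinearMap.ker f := by
    intro x hx
    have hx2 := h2 hx
    rw [← Submodule.span_eq J, ← Submodule.span_univ, Submodule.span_smul_span, Submodule.mem_span_set'] at hx2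
    obtain ⟨m, c, g, hg⟩ := hx2
    choose r hr a ha hra using fun i : Fin m => Set.mem_smul.1 (g i).2
    have hsum : ∑ i, (c i * r i) • f (a i) = 0 := by
      have h : f x = 0 := hx
      rw [← hg, map_sum] at h
      rw [← h]
      refine Finset.sum_congr rfl fun i _ => ?_
      rw [mul_smul, ← map_smul, ← map_smul, hra]
    obtain ⟨k, c', y, hy, hc⟩ := Module.Flat.isTrivialRelation_of_sum_smul_eq_zero (R := R) (M := B)
      (f := fun i => c i * r i) (x := fun i => f (a i)) (by exact hsum)
    choose y' hy' using fun j => hsurj (y j)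
    have he : x = ∑ i, (c i * r i) • (a i - ∑ j, c' i j • y' j) := by
      simp only [smul_sub, Finset.sum_sub_distrib, Finset.smul_sum, smul_smul]
      rw [Finset.sum_comm]
      have : ∀ j, ∑ i, (c i * r i * c' i j) • y' j = 0 := fun j => by
        rw [← Finset.sum_smul, hc j, zero_smul]
      simp only [this, Finset.sum_const_zero, sub_zero]
      rw [← hg]
      refine Finset.sum_congr rfl fun i _ => ?_
      rw [← smul_smul, hra]
    rw [he]
    refine Submodule.sum_mem _ fun i _ => Submodule.smul_mem_smul (J.mul_mem_left _ (hr i)) ?_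
    rw [LinearMap.mem_ker, map_sub, map_sum, sub_eq_zero]
    refine (hy i).trans ?_
    exact Finset.sum_congr rfl fun j _ => by rw [map_smul, hy']
  have key : ∀ k : ℕ, LinearMap.ker f ≤ J ^ k • LinearMap.ker f := by
    intro k
    induction k with
    | zero => rw [pow_zero, Ideal.one_eq_top, Submodule.top_smul]
    | succ k ih =>
      refine ih.trans ((Submodule.smul_mono le_rfl hker).trans_eq ?_)
      rw [← Submodule.mul_smul, ← pow_succ]
  refine ⟨LinearMap.ker_eq_bot.1 (le_bot_iff.1 ((key n).trans_eq ?_)), hsurj⟩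
  rw [hn, Ideal.zero_eq_bot, Submodule.bot_smul]

open HomSmooth

variable {R : Type u} [CommRing R] {H T : Over (Spec (CommRingCat.of R))}

theorem wFst_left_isoSpec (J : Ideal R) [IsAffine H.left] :
    (wFst (H := H) J).left ≫ H.left.isoSpec.hom =
      Spec.map (CommRingCat.ofHom (Ideal.Quotient.mk (J.map (θH H)))) := by
  show (Spec.map _ ≫ H.left.isoSpec.inv) ≫ _ = _
  rw [Category.assoc, Iso.inv_hom_id, Category.comp_id]

theorem θH_comp (ψ : H ⟶ T) : ψ.left.appTop.hom.comp (θH T) = θH H := by
  have e : ψ.left ≫ T.hom = H.hom := Over.w ψ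
  refine RingHom.ext fun r => ?_
  have h := congrArg (fun m => m.appTop.hom ((Scheme.ΓSpecIso (CommRingCat.of R)).inv.hom r)) e
  simp only [Scheme.Hom.comp_appTop, CommRingCat.hom_comp, RingHom.comp_apply] at h
  exact h

/-- a morphism from a flat affine scheme which is bijective on points over a nilpotent thickening is an
isomorphism -/
theorem isIso_of_points [IsAffine H.left] [IsAffine T.left] [Flat H.hom] {J : Ideal R} (hJ : IsNilpotent J)
    (ψ : H ⟶ T) (hex : ∀ (Y : Over (Spec (CommRingCat.of R))) (_ : Y ⟶ Cocycle.Z J) (b : Y ⟶ T), ∃ a, a ≫ ψ = b)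
    (huniq : ∀ (Y : Over (Spec (CommRingCat.of R))) (_ : Y ⟶ Cocycle.Z J) (a a' : Y ⟶ H),
      a ≫ ψ = a' ≫ ψ → a = a') : IsIso ψ := by
  let f : Γ(T.left, ⊤) →+* Γ(H.left, ⊤) := ψ.left.appTop.hom
  have hψ : ψ.left ≫ T.left.isoSpec.hom = H.left.isoSpec.hom ≫ Spec.map (CommRingCat.ofHom f) :=
    Scheme.toSpecΓ_naturality ψ.left
  letI : Algebra R Γ(H.left, ⊤) := (θH H).toAlgebra
  letI : Algebra R Γ(T.left, ⊤) := (θH T).toAlgebra
  have hflat : Module.Flat R Γ(H.left, ⊤) := by
    have h1 : H.hom.appTop.hom.Flat := (HasRingHomProperty.iff_of_isAffine (P := @Flat)).1 ‹Flat H.hom›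
    have h2 : (θH H).Flat := RingHom.Flat.comp
      (RingHom.Flat.of_bijective (ConcreteCategory.bijective_of_isIso (Scheme.ΓSpecIso (CommRingCat.of R)).inv)) h1
    exact h2
  let fa : Γ(T.left, ⊤) →ₐ[R] Γ(H.left, ⊤) :=
    { f with commutes' := fun r => RingHom.congr_fun (θH_comp ψ) r }
  obtain ⟨a, ha⟩ := hex (W T J) (wSnd J) (wFst J)
  let s : Γ(H.left, ⊤) →+* Γ(T.left, ⊤) ⧸ J.map (θH T) := (Spec.preimage (a.left ≫ H.left.isoSpec.hom)).hom
  have hs : Spec.map (CommRingCat.ofHom s) = a.left ≫ H.left.isoSpec.hom := Spec.map_preimage _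
  have hsf : s.comp f = Ideal.Quotient.mk (J.map (θH T)) := by
    have h1 := congrArg (fun m => m.left ≫ T.left.isoSpec.hom) ha
    simp only [Over.comp_left, Category.assoc, hψ] at h1
    have h2 : Spec.map (CommRingCat.ofHom s) ≫ Spec.map (CommRingCat.ofHom f) =
        Spec.map (CommRingCat.ofHom (Ideal.Quotient.mk (J.map (θH T)))) :=
      ((congrArg (· ≫ Spec.map (CommRingCat.ofHom f)) hs).trans (Category.assoc _ _ _)).trans
        (h1.trans (wFst_left_isoSpec (H := T) J))
    rw [← Spec.map_comp] at h2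
    exact congrArg (fun m => m.hom) (Spec.map_injective h2)
  have hle : J.map (θH T) ≤ (J.map (θH H)).comap f := by
    rw [← Ideal.map_le_iff_le_comap, Ideal.map_map, θH_comp]
  let v : W H J ⟶ W T J :=
    Over.homMk (Spec.map (CommRingCat.ofHom (Ideal.quotientMap (J.map (θH H)) f hle))) (by
      show Spec.map _ ≫ Spec.map _ ≫ T.left.isoSpec.inv ≫ T.hom = Spec.map _ ≫ H.left.isoSpec.inv ≫ H.hom
      rw [← Spec.map_comp_assoc, ← CommRingCat.ofHom_comp, Ideal.quotientMap_comp_mk, CommRingCat.ofHom_comp,
        Spec.map_comp, Category.assoc]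
      congr 1
      rw [← Over.w ψ, show Spec.map (CommRingCat.ofHom f) = H.left.isoSpec.inv ≫ ψ.left ≫ T.left.isoSpec.hom by
        rw [hψ, Iso.inv_hom_id_assoc]]
      simp)
  have hv : v ≫ wFst (H := T) J = wFst (H := H) J ≫ ψ := by
    apply Over.OverMorphism.ext
    rw [← cancel_mono T.left.isoSpec.hom, Over.comp_left, Over.comp_left, Category.assoc, Category.assoc,
      wFst_left_isoSpec, hψ, reassoc_of% wFst_left_isoSpec (H := H) J]
    show Spec.map _ ≫ Spec.map _ = Spec.map _ ≫ Spec.map _
    rw [← Spec.map_comp, ← Spec.map_comp, ← CommRingCat.ofHom_comp, ← CommRingCat.ofHom_comp,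
      Ideal.quotientMap_comp_mk]
  have hfs : (Ideal.quotientMap (J.map (θH H)) f hle).comp s = Ideal.Quotient.mk (J.map (θH H)) := by
    have h1 : wFst (H := H) J = v ≫ a := huniq (W H J) (wSnd J) _ _ (by rw [Category.assoc, ha, hv])
    have h2 := congrArg (fun m => m.left ≫ H.left.isoSpec.hom) h1
    simp only [Over.comp_left, Category.assoc, ← hs, wFst_left_isoSpec] at h2
    have h3 : Spec.map (CommRingCat.ofHom (Ideal.Quotient.mk (J.map (θH H)))) =
        Spec.map (CommRingCat.ofHom (Ideal.quotientMap (J.map (θH H)) f hle)) ≫ Spec.map (CommRingCat.ofHom s) := h2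
    rw [← Spec.map_comp] at h3
    exact congrArg (fun m => m.hom) (Spec.map_injective h3).symm
  have hmem : ∀ {D : Type u} [CommRing D] [Algebra R D] (x : D),
      x ∈ J.map (algebraMap R D) → x ∈ J • (⊤ : Submodule R D) := fun x hx => by
    rw [Ideal.smul_top_eq_map]; exact hx
  have hbij : Function.Bijective f := by
    refine bijective_of_flat fa.toLinearMap hJ (fun b _ => ?_) (fun x hx => hmem x ?_)
    · obtain ⟨x, hx⟩ := Ideal.Quotient.mk_surjective (s b)
      have h := RingHom.congr_fun hfs b
      rw [RingHom.comp_apply, ← hx, Ideal.quotientMap_mk, Ideal.Quotient.eq] at h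
      exact Submodule.mem_sup.2 ⟨f x, ⟨x, rfl⟩, b - f x, hmem _ (by have h5 := neg_mem h; rw [neg_sub] at h5; exact h5), add_sub_cancel _ _⟩
    · have h := RingHom.congr_fun hsf x
      rw [RingHom.comp_apply, show f x = 0 from hx, map_zero] at h
      exact Ideal.Quotient.eq_zero_iff_mem.1 h.symm
  have : IsIso (CommRingCat.ofHom f) := (ConcreteCategory.isIso_iff_bijective _).2 hbij
  have : IsIso ψ.left := by
    have : IsIso (ψ.left ≫ T.left.isoSpec.hom) := by rw [hψ]; infer_instance
    exact IsIso.of_isIso_comp_right ψ.left T.left.isoSpec.hom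
  have : IsIso ((Over.forget _).map ψ) := this
  exact isIso_of_reflects_iso _ (Over.forget _)

end Groth.L25.Bridge
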