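import Groth.Agent.L25.Bridge.SubgroupLift
import Groth.Agent.L25.Bridge.FlatIso
import Groth.Agent.L25.Cocycle.Subgroups
import Groth.Agent.L25.Central

/-!
# Lifting subgroups of multiplicative type with prescribed torsion
-/

set_option autoImplicit false
universe u

open CategoryTheory CategoryTheory.Limits MonoidalCategory CartesianMonoidalCategory
open AlgebraicGeometry
open scoped MonObj

set_option backward.isDefEq.respectTransparency.types false

noncomputable section

namespace Groth.L25.Bridge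

variable {R : Type u} [CommRing R] {J : Ideal R}

section PtBC

variable {X X' Y : Over (Spec (CommRingCat.of R))} (q : Y ⟶ Cocycle.Z J)

/-- a point over the closed subscheme as a point of the reduction -/
def ptBC (c : Y ⟶ X) : Over.mk q.left ⟶ Red.bc (πJ J) X :=
  Over.homMk (pullback.lift c.left q.left ((Over.w c).trans (Over.w q).symm)) (pullback.lift_snd _ _ _)

theorem ptBC_map (c : Y ⟶ X) (f : X ⟶ X') :
    ptBC q (c ≫ f) = ptBC q c ≫ (Over.pullback (πJ J)).map f := by
  apply Over.OverMorphism.ext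
  apply pullback.hom_ext
  · refine (pullback.lift_fst _ _ _).trans (Eq.symm ?_)
    exact (Category.assoc _ _ _).trans ((congrArg (pullback.lift c.left q.left _ ≫ ·) (pullback.lift_fst _ _ _)).trans
      (pullback.lift_fst_assoc _ _ _ _))
  · refine (pullback.lift_snd _ _ _).trans (Eq.symm ?_)
    exact (Category.assoc _ _ _).trans ((congrArg (pullback.lift c.left q.left _ ≫ ·) (pullback.lift_snd _ _ _)).trans
      (pullback.lift_snd _ _ _))

theorem ptBC_injective : Function.Injective (ptBC q (X := X)) := fun c d h => by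
  have h1 := congrArg (fun m => m.left ≫ pullback.fst X.hom (πJ J)) h
  simp only [ptBC, Over.homMk_left, pullback.lift_fst] at h1
  exact Over.OverMorphism.ext h1

theorem exists_ptBC (y : Over.mk q.left ⟶ Red.bc (πJ J) X) : ∃ c : Y ⟶ X, ptBC q c = y := by
  refine ⟨Over.homMk (y.left ≫ pullback.fst X.hom (πJ J)) ?_, ?_⟩
  · rw [Category.assoc, pullback.condition, ← Over.w q]
    exact (Category.assoc _ _ _).symm.trans (congrArg (· ≫ πJ J) (Over.w y))
  · apply Over.OverMorphism.ext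
    apply pullback.hom_ext
    · exact pullback.lift_fst _ _ _
    · exact (pullback.lift_snd _ _ _).trans (Over.w y).symm

variable [GrpObj X]

theorem ptBC_mul (c d : Y ⟶ X) : ptBC q (c * d) = ptBC q c * ptBC q d := by
  have key : ∀ g : Y ⟶ X, ptBC q g = ptBC q (𝟙 Y) ≫ (Over.pullback (πJ J)).map g := fun g => by
    rw [← ptBC_map, Category.id_comp]
  rw [key, key c, key d, show (Over.pullback (πJ J)).map (c * d) =
    (Over.pullback (πJ J)).map c * (Over.pullback (πJ J)).map d from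
      map_mul ((Over.pullback (πJ J)).homMonoidHom) _ _, MonObj.comp_mul]

/-- points over the closed subscheme, as a homomorphism -/
def ptBCHom : (Y ⟶ X) →* (Over.mk q.left ⟶ Red.bc (πJ J) X) := MonoidHom.mk' (ptBC q) (ptBC_mul q)

theorem ptBC_pow_eq_one {n : ℕ} (c : Y ⟶ X) : ptBC q c ^ n = 1 ↔ c ^ n = 1 := by
  rw [show ptBC q c = ptBCHom q c from rfl, ← map_pow, ← map_one (ptBCHom (X := X) q)]
  exact (ptBC_injective q).eq_iff

end PtBC

/-- precomposition -/
def preHom {C : Type*} [Category C] [CartesianMonoidalCategory C] {X Y W : C} [GrpObj X] (a : Y ⟶ W) :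
    (W ⟶ X) →* (Y ⟶ X) :=
  MonoidHom.mk' (a ≫ ·) fun c d => MonObj.comp_mul _ _ _

theorem isMonHom_of_mul {C : Type*} [Category C] [CartesianMonoidalCategory C] {X W : C} [GrpObj X] [GrpObj W]
    (φ : X ⟶ W) (hmul : ∀ (Y : C) (a b : Y ⟶ X), (a * b) ≫ φ = (a ≫ φ) * (b ≫ φ)) : IsMonHom φ := by
  refine ⟨?_, by rw [MonObj.mul_eq_mul, hmul, MonObj.mul_eq_mul, MonObj.comp_mul, tensorHom_fst, tensorHom_snd]⟩
  have h1 : ∀ (K : C) [GrpObj K], (MonObj.one : 𝟙_ C ⟶ K) = 1 :=
    fun K _ => by rw [Hom.one_def, toUnit_unique (toUnit _) (𝟙 _), Category.id_comp]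
  rw [h1 X, h1 W]
  have h2 := hmul _ (1 : 𝟙_ C ⟶ X) 1
  rw [_root_.one_mul] at h2
  exact left_eq_mul.1 h2

variable {H G L : Over (Spec (CommRingCat.of R))} [GrpObj H] [GrpObj G] [GrpObj L]

theorem flat_of_locally (hL : TwC.Locally (Spec (CommRingCat.of R)) TwC.Topology.fpqc (fun S' f =>
    ∃ (M : Type) (_ : AddCommGroup M), Nonempty (Grp.mk (Red.bc f L) ≅ Grp.mk (Red.DS S' M)))) :
    Flat L.hom := by
  have := HomSmooth.isAffineHom_of_locally hL
  have : IsAffine L.left := isAffine_of_isAffineHom L.hom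
  obtain ⟨A, _, _, ⟨e⟩⟩ := exists_hopf L
  have : IsIso e.hom.hom.hom := ⟨e.inv.hom.hom, congr($(e.hom_inv_id).hom.hom), congr($(e.inv_hom_id).hom.hom)⟩
  have : IsIso e.hom.hom.hom.left := inferInstanceAs (IsIso ((Over.forget _).map e.hom.hom.hom))
  rw [← Over.w e.hom.hom.hom]
  have : Flat (P R A).hom := by
    show Flat (Spec.map (CommRingCat.ofHom (algebraMap R A)))
    rw [HasRingHomProperty.Spec_iff (P := @Flat)]
    exact RingHom.flat_algebraMap_iff.2 (MultType.flat (isMultType_of_locally A (locally_of_iso e hL)))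
  infer_instance

/-- the conjugation by a point is an isomorphism -/
theorem isIso_intBy (g : 𝟙_ (Over (Spec (CommRingCat.of R))) ⟶ G) : IsIso (Cocycle.intBy g (𝟙 G)) :=
  ⟨Cocycle.intBy g⁻¹ (𝟙 G), by
    simp only [Cocycle.comp_intBy, GrpObj.comp_inv, Category.comp_id]
    simp only [Cocycle.intBy, GrpObj.comp_inv]
    group, by
    simp only [Cocycle.comp_intBy, GrpObj.comp_inv, Category.comp_id]
    simp only [Cocycle.intBy, GrpObj.comp_inv]
    group⟩

/-- lifting of a subgroup with prescribed torsion, given a lift -/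
theorem exists_torsion_lift [Smooth G.hom] (hJ : IsNilpotent J) (n : ℕ)
    (hH : SGA3x.IsMultTypeFT H) (j : H ⟶ G) [IsMonHom j] [IsImmersion j.left]
    (hL : TwC.Locally (Spec (CommRingCat.of R)) TwC.Topology.fpqc (fun S' f => ∃ (M : Type) (_ : AddCommGroup M),
      Nonempty (Grp.mk (Red.bc f L) ≅ Grp.mk (Red.DS S' M))))
    (l : L ⟶ G) [IsMonHom l] [Mono l]
    (hA : ∀ (Y : Over (Spec (CommRingCat.of R))) (_ : Y ⟶ Cocycle.Z J) (a : Y ⟶ L),
      ∃ c : Y ⟶ H, c ^ n = 1 ∧ c ≫ j = a ≫ l)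
    (hB : ∀ (Y : Over (Spec (CommRingCat.of R))) (_ : Y ⟶ Cocycle.Z J) (c : Y ⟶ H),
      c ^ n = 1 → ∃ a : Y ⟶ L, a ≫ l = c ≫ j) :
    ∃ j' : H ⟶ G, IsMonHom j' ∧ IsImmersion j'.left ∧
      (Over.pullback (πJ J)).map j' = (Over.pullback (πJ J)).map j ∧
      ∀ (Y : Over (Spec (CommRingCat.of R))) (g : Y ⟶ G),
        (∃ y : Y ⟶ L, y ≫ l = g) ↔ ∃ h : Y ⟶ H, h ^ n = 1 ∧ h ≫ j' = g := by
  have : Mono j := Over.mono_of_mono_left j
  have hHl := locally_of_ft hH
  have hLA := HomSmooth.isAffineHom_of_locally hL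
  have hHA := Central.isAffineHom_of_multTypeFT hH
  have : IsAffine L.left := isAffine_of_isAffineHom L.hom
  have : IsAffine H.left := isAffine_of_isAffineHom H.hom
  obtain ⟨ψ, hψm, hψ⟩ := Cocycle.exists_hom_lift hL hHl hJ l j
    (fun Y q a => ⟨(hA Y q a).choose, (hA Y q a).choose_spec.2⟩)
  obtain ⟨g, hg, hconj⟩ := Cocycle.exists_conj_nilpotent hL hJ (ψ ≫ j) l hψ
  have hj' : ∀ (Y : Over (Spec (CommRingCat.of R))) (h : Y ⟶ H),
      h ≫ Cocycle.intBy g j = (toUnit Y ≫ g) * (h ≫ j) * (toUnit Y ≫ g)⁻¹ :=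
    fun Y h => Cocycle.comp_intBy g j h
  have hψj : ψ ≫ Cocycle.intBy g j = l := by
    rw [hj']
    have h := hconj L (𝟙 L)
    rw [Category.id_comp, Category.id_comp] at h
    exact h.symm
  have hagree : ∀ (Y : Over (Spec (CommRingCat.of R))) (q : Y ⟶ Cocycle.Z J) (a : Y ⟶ L),
      (a ≫ ψ) ≫ j = a ≫ l := fun Y q a => by rw [Category.assoc]; exact hψ Y q a
  -- the kernel of the power map
  let pw : H ⟶ H := (𝟙 H) ^ n
  have hpw : ∀ (Y : Over (Spec (CommRingCat.of R))) (c : Y ⟶ H), c ≫ pw = c ^ n := fun Y c => by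
    show preHom c ((𝟙 H) ^ n) = _
    rw [map_pow]
    exact congrArg (· ^ n) (Category.comp_id c)
  let e : 𝟙_ (Over (Spec (CommRingCat.of R))) ⟶ H := η[H]
  have he : ∀ Y : Over (Spec (CommRingCat.of R)), (1 : Y ⟶ H) = toUnit Y ≫ e := fun Y => Hom.one_def
  let T : Over (Spec (CommRingCat.of R)) := Over.mk (pullback.fst pw.left e.left ≫ H.hom)
  let iT : T ⟶ H := Over.homMk (pullback.fst pw.left e.left) rfl
  have hsnd : pullback.fst pw.left e.left ≫ H.hom =
      pullback.snd pw.left e.left ≫ (𝟙_ (Over (Spec (CommRingCat.of R)))).hom := by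
    rw [← Over.w e, ← reassoc_of% (pullback.condition (f := pw.left) (g := e.left)), Over.w pw]
  have hT : iT ^ n = 1 := by
    rw [← hpw, he]
    apply Over.OverMorphism.ext
    show pullback.fst _ _ ≫ pw.left = (toUnit T).left ≫ e.left
    rw [pullback.condition]
    congr 1
    have h := Over.w (toUnit T)
    rw [show (𝟙_ (Over (Spec (CommRingCat.of R)))).hom = 𝟙 _ from rfl, Category.comp_id] at h
    rw [h]
    exact (hsnd.trans (Category.comp_id _)).symm
  have hlift : ∀ (Y : Over (Spec (CommRingCat.of R))) (c : Y ⟶ H), c ^ n = 1 → ∃ b : Y ⟶ T, b ≫ iT = c := by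
    intro Y c hc
    have h1 : c.left ≫ pw.left = (toUnit Y).left ≫ e.left := by
      have h2 := congrArg (fun m => m.left) ((hpw Y c).trans (hc.trans (he Y)))
      exact h2
    refine ⟨Over.homMk (pullback.lift c.left (toUnit Y).left h1) ?_, Over.OverMorphism.ext (pullback.lift_fst _ _ _)⟩
    show _ ≫ pullback.fst pw.left e.left ≫ H.hom = Y.hom
    rw [pullback.lift_fst_assoc]
    exact Over.w c
  have : Mono (pullback.fst pw.left e.left) := by
    have : Mono e.left := by
      have : IsSplitMono e.left := IsSplitMono.mk' ⟨H.hom, Over.w e⟩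
      infer_instance
    infer_instance
  have : Mono iT := Over.mono_of_mono_left iT
  have : IsAffine (𝟙_ (Over (Spec (CommRingCat.of R)))).left := inferInstanceAs (IsAffine (Spec (CommRingCat.of R)))
  have : IsAffine T.left := inferInstanceAs (IsAffine (pullback pw.left e.left))
  -- the torsion is killed by `n`
  have hmulpw : ∀ (Y : Over (Spec (CommRingCat.of R))) (a b : Y ⟶ L),
      (a * b) ≫ ψ ^ n = (a ≫ ψ ^ n) * (b ≫ ψ ^ n) := fun Y a b => by
    show preHom (a * b) (ψ ^ n) = preHom a (ψ ^ n) * preHom b (ψ ^ n)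
    rw [map_pow, map_pow, map_pow]
    show ((a * b) ≫ ψ) ^ n = _
    rw [MonObj.mul_comp]
    exact (show Commute (a ≫ ψ) (b ≫ ψ) from Central.mul_comm_of_multTypeFT hH _ _).mul_pow n
  have hψn : ψ ^ n = 1 := by
    have : IsMonHom (ψ ^ n) := isMonHom_of_mul _ hmulpw
    have : IsMonHom (1 : L ⟶ H) := isMonHom_of_mul _ fun Y a b => by
      rw [MonObj.comp_one, MonObj.comp_one, MonObj.comp_one, _root_.one_mul]
    refine Cocycle.hom_eq_of_agree hL hHl hJ _ _ fun Y q a => ?_
    rw [MonObj.comp_one]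
    show preHom a (ψ ^ n) = 1
    rw [map_pow]
    obtain ⟨c, hc, hcj⟩ := hA Y q a
    show (a ≫ ψ) ^ n = 1
    rw [show a ≫ ψ = c from (cancel_mono j).1 ((hagree Y q a).trans hcj.symm), hc]
  obtain ⟨ψT, hψT⟩ := hlift L ψ hψn
  have : Flat L.hom := flat_of_locally hL
  have : IsIso ψT := by
    refine isIso_of_points hJ ψT (fun Y q b => ?_) (fun Y q a a' h => ?_)
    · have hc : (b ≫ iT) ^ n = 1 := by
        rw [← hpw, Category.assoc, hpw, hT, MonObj.comp_one]
      obtain ⟨a, ha⟩ := hB Y q _ hc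
      refine ⟨a, (cancel_mono iT).1 ?_⟩
      rw [Category.assoc, hψT]
      exact (cancel_mono j).1 ((hagree Y q a).trans ha)
    · refine (cancel_mono l).1 ?_
      rw [← hagree Y q a, ← hagree Y q a', ← hψT, ← Category.assoc a, ← Category.assoc a', h]
  have : IsIso (Cocycle.intBy g (𝟙 G)) := isIso_intBy g
  have : IsIso (Cocycle.intBy g (𝟙 G)).left := inferInstanceAs (IsIso ((Over.forget _).map (Cocycle.intBy g (𝟙 G))))
  refine ⟨Cocycle.intBy g j, inferInstance, ?_, ?_, fun Y x => ⟨?_, ?_⟩⟩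
  · have h : Cocycle.intBy g j = j ≫ Cocycle.intBy g (𝟙 G) := by
      rw [Cocycle.comp_intBy, Category.comp_id]; rfl
    rw [h, Over.comp_left]
    infer_instance
  · apply Over.OverMorphism.ext
    apply pullback.hom_ext
    · have h : fst H (Cocycle.Z J) ≫ Cocycle.intBy g j = fst H (Cocycle.Z J) ≫ j := by
        rw [hj', show toUnit (H ⊗ Cocycle.Z J) = snd H (Cocycle.Z J) ≫ toUnit _ from toUnit_unique _ _,
          Category.assoc, hg, MonObj.comp_one, _root_.one_mul, inv_one, _root_.mul_one]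
      have h' := congrArg (fun m => m.left) h
      exact (pullback.lift_fst _ _ _).trans (h'.trans (pullback.lift_fst _ _ _).symm)
    · exact (pullback.lift_snd _ _ _).trans (pullback.lift_snd _ _ _).symm
  · rintro ⟨y, rfl⟩
    refine ⟨y ≫ ψ, ?_, by rw [Category.assoc, hψj]⟩
    rw [← hpw, Category.assoc, hpw, hψn, MonObj.comp_one]
  · rintro ⟨h, hh, rfl⟩
    obtain ⟨b, rfl⟩ := hlift Y h hh
    refine ⟨b ≫ inv ψT, ?_⟩
    rw [← hψj, ← hψT]
    simp

end Groth.L25.Bridge
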