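import Groth.Agent.L25.MultType.Diag
import Groth.Prelude.Def_Red
import Mathlib.AlgebraicGeometry.Group.Affine
import Mathlib.RingTheory.Bialgebra.MonoidAlgebra

/-!
# Affine group schemes and Hopf algebras: base change and diagonalisable groups
-/

set_option autoImplicit false
universe u

open CategoryTheory CategoryTheory.Limits MonoidalCategory CartesianMonoidalCategory
open AlgebraicGeometry TensorProduct

set_option backward.isDefEq.respectTransparency.types false

noncomputable section

namespace Groth.L25.Bridge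

/-- `Spec A` as a group over `Spec R` -/
abbrev P (R : Type u) [CommRing R] (A : Type u) [CommRing A] [HopfAlgebra R A] : Over (Spec (CommRingCat.of R)) :=
  (Spec (CommRingCat.of A)).asOver (Spec (CommRingCat.of R))

variable {R : Type u} [CommRing R] {A B : Type u} [CommRing A] [HopfAlgebra R A] [CommRing B] [HopfAlgebra R B]

/-- an isomorphism of Hopf algebras gives an isomorphism of groups -/
def mapIso (e : A ≃ₐc[R] B) : Grp.mk (P R B) ≅ Grp.mk (P R A) :=
  (hopfSpec (CommRingCat.of R)).mapIso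
    { hom := (CommHopfAlgCat.ofHom (e : A →ₐc[R] B)).op
      inv := (CommHopfAlgCat.ofHom (e.symm : B →ₐc[R] A)).op
      hom_inv_id := Quiver.Hom.unop_inj (CommHopfAlgCat.hom_ext (BialgHom.ext fun x => e.apply_symm_apply x))
      inv_hom_id := Quiver.Hom.unop_inj (CommHopfAlgCat.hom_ext (BialgHom.ext fun x => e.symm_apply_apply x)) }

/-- an isomorphism of groups comes from an isomorphism of Hopf algebras -/
theorem exists_bialgEquiv (e : Grp.mk (P R B) ≅ Grp.mk (P R A)) : Nonempty (A ≃ₐc[R] B) := by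
  let f : Opposite.op (CommHopfAlgCat.of R B) ≅ Opposite.op (CommHopfAlgCat.of R A) :=
    (hopfSpec.fullyFaithful (R := CommRingCat.of R)).preimageIso
      (X := Opposite.op (CommHopfAlgCat.of R B)) (Y := Opposite.op (CommHopfAlgCat.of R A)) e
  have h1 : ∀ x, f.hom.unop.hom (f.inv.unop.hom x) = x := fun x =>
    congrArg (fun m => m.unop.hom x) f.hom_inv_id
  have h2 : ∀ x, f.inv.unop.hom (f.hom.unop.hom x) = x := fun x =>
    congrArg (fun m => m.unop.hom x) f.inv_hom_id
  exact ⟨BialgEquiv.ofBijective f.hom.unop.hom ⟨fun a b h => by rw [← h2 a, ← h2 b, h], fun y => ⟨_, h1 y⟩⟩⟩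

variable (R) (S : Type u) [CommRing S] [Algebra R S] (A)

instance isIso_pullbackSpec : IsIso ((pullbackSymmetry (Spec (CommRingCat.of A) ↘ Spec (CommRingCat.of R))
    (Spec (CommRingCat.of S) ↘ Spec (CommRingCat.of R)) ≪≫ pullbackSpecIso' R S A).hom.asOver
      (Spec (CommRingCat.of S))) := by
  let f := (pullbackSymmetry (Spec (CommRingCat.of A) ↘ Spec (CommRingCat.of R))
    (Spec (CommRingCat.of S) ↘ Spec (CommRingCat.of R)) ≪≫ pullbackSpecIso' R S A).hom.asOver
      (Spec (CommRingCat.of S))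
  have : IsIso f.left :=
    inferInstanceAs (IsIso (pullbackSymmetry (Spec (CommRingCat.of A) ↘ Spec (CommRingCat.of R))
      (Spec (CommRingCat.of S) ↘ Spec (CommRingCat.of R)) ≪≫ pullbackSpecIso' R S A).hom)
  have : IsIso ((Over.forget _).map f) := this
  exact isIso_of_reflects_iso f (Over.forget _)

/-- base change, for the canonical structures -/
def pbIso : Grp.mk (Scheme.asOver (pullback (Spec (CommRingCat.of A) ↘ Spec (CommRingCat.of R))
      (Spec (CommRingCat.of S) ↘ Spec (CommRingCat.of R))) (Spec (CommRingCat.of S))) ≅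
    Grp.mk (P S (S ⊗[R] A)) :=
  let φ := asIso ((pullbackSymmetry (Spec (CommRingCat.of A) ↘ Spec (CommRingCat.of R))
    (Spec (CommRingCat.of S) ↘ Spec (CommRingCat.of R)) ≪≫ pullbackSpecIso' R S A).hom.asOver
      (Spec (CommRingCat.of S)))
  let hφ : IsMonHom φ.hom := by
    simp only [φ, asIso_hom]
    infer_instance
  @Grp.mkIso' _ _ _ _ _ φ _ _ hφ

/-- base change -/
def bcIso : Grp.mk (Red.bc (Spec.map (CommRingCat.ofHom (algebraMap R S))) (P R A)) ≅
    Grp.mk (P S (S ⊗[R] A)) :=
  pbIso R A S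

variable {R S}

/-- base change along an equal morphism -/
def bcIso' {θ : Spec (CommRingCat.of S) ⟶ Spec (CommRingCat.of R)}
    (hθ : θ = Spec.map (CommRingCat.ofHom (algebraMap R S))) :
    Grp.mk (Red.bc θ (P R A)) ≅ Grp.mk (P S (S ⊗[R] A)) :=
  eqToIso (by subst hθ; rfl) ≪≫ bcIso R A S

variable (T : Type u) [CommRing T] (M : Type) [AddCommGroup M]

/-- the diagonalisable group over an affine base -/
def dsIso : Grp.mk (Red.DS (Spec (CommRingCat.of T)) M) ≅
    Grp.mk (P T (MonoidAlgebra T (Multiplicative M))) :=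
  letI : Algebra (ULift.{u} ℤ) T :=
    ((Int.castRingHom T).comp (ULift.ringEquiv : ULift.{u} ℤ ≃+* ℤ).toRingHom).toAlgebra
  bcIso' (R := ULift.{u} ℤ) (MonoidAlgebra (ULift.{u} ℤ) (Multiplicative M)) (S := T)
      (specULiftZIsTerminal.hom_ext _ _) ≪≫
    mapIso (MultType.scalarBialg (ULift.{u} ℤ) T (Multiplicative M))

end Groth.L25.Bridge
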