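import Groth.Agent.L25.Bridge.Spec
import Groth.Agent.L25.MultType.Glue
import Groth.Agent.L25.TrivLocus
import Groth.Agent.L25.MultTypeBC
import Mathlib.RingTheory.FiniteType
import Mathlib.AlgebraicGeometry.Morphisms.Flat

/-!
# Groups of multiplicative type over an affine base: scheme and Hopf algebra forms
-/

set_option autoImplicit false
universe u

open CategoryTheory CategoryTheory.Limits MonoidalCategory CartesianMonoidalCategory
open AlgebraicGeometry TensorProduct

set_option backward.isDefEq.respectTransparency.types false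

noncomputable section

namespace Groth.L25.Bridge

variable {R : Type u} [CommRing R] {A : Type u} [CommRing A] [HopfAlgebra R A]
  {C : Type u} [CommRing C] [Algebra R C] {M : Type} [AddCommGroup M]

/-- a splitting of the Hopf algebra splits the group -/
def splitIso {θ : Spec (CommRingCat.of C) ⟶ Spec (CommRingCat.of R)}
    (hθ : θ = Spec.map (CommRingCat.ofHom (algebraMap R C)))
    (e : C ⊗[R] A ≃ₐc[C] MonoidAlgebra C (Multiplicative M)) :
    Grp.mk (Red.bc θ (P R A)) ≅ Grp.mk (Red.DS (Spec (CommRingCat.of C)) M) :=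
  bcIso' A hθ ≪≫ mapIso e.symm ≪≫ (dsIso C M).symm

/-- a splitting of the group splits the Hopf algebra -/
theorem exists_split {θ : Spec (CommRingCat.of C) ⟶ Spec (CommRingCat.of R)}
    (hθ : θ = Spec.map (CommRingCat.ofHom (algebraMap R C)))
    (e : Grp.mk (Red.bc θ (P R A)) ≅ Grp.mk (Red.DS (Spec (CommRingCat.of C)) M)) :
    Nonempty (C ⊗[R] A ≃ₐc[C] MonoidAlgebra C (Multiplicative M)) := by
  obtain ⟨f⟩ := exists_bialgEquiv ((dsIso C M).symm ≪≫ e.symm ≪≫ bcIso' A hθ)
  exact ⟨f⟩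

/-- a finitely generated group is small -/
theorem exists_small (N : Type u) [CommGroup N] [Monoid.FG N] :
    ∃ (M : Type) (_ : AddCommGroup M), AddGroup.FG M ∧ Nonempty (Multiplicative M ≃* N) := by
  have hfg : AddGroup.FG (Additive N) :=
    AddGroup.fg_iff_addMonoid_fg.2 (Monoid.fg_iff_add_fg.1 inferInstance)
  have : Module.Finite ℤ (Additive N) := Module.Finite.iff_addGroup_fg.2 hfg
  obtain ⟨n, φ, hφ⟩ := Module.Finite.exists_fin' ℤ (Additive N)
  refine ⟨(Fin n → ℤ) ⧸ LinearMap.ker φ, inferInstance,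
    Module.Finite.iff_addGroup_fg.1 inferInstance, ⟨?_⟩⟩
  exact (AddEquiv.toMultiplicative (φ.quotKerEquivOfSurjective hφ).toAddEquiv).trans
    (MulEquiv.multiplicativeAdditive N)

/-- group algebras over the zero ring are isomorphic -/
theorem bialgEquiv_of_subsingleton {B B' : Type u} [CommRing B] [CommRing B'] [Bialgebra C B] [Bialgebra C B']
    [Subsingleton C] : Nonempty (B ≃ₐc[C] B') := by
  have h : ∀ (D : Type u) [CommRing D] [Bialgebra C D], Subsingleton D := fun D _ _ =>
    Module.subsingleton C D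
  haveI := h B
  haveI := h B'
  haveI := h (B ⊗[C] B)
  haveI := h (B' ⊗[C] B')
  let f : B →ₐ[C] B' :=
    { toFun := fun _ => 0
      map_one' := Subsingleton.elim _ _
      map_mul' := fun _ _ => Subsingleton.elim _ _
      map_zero' := rfl
      map_add' := fun _ _ => Subsingleton.elim _ _
      commutes' := fun _ => Subsingleton.elim _ _ }
  exact ⟨BialgEquiv.ofBijective (BialgHom.ofAlgHom f (Subsingleton.elim _ _) (Subsingleton.elim _ _))
    ⟨fun a b _ => Subsingleton.elim a b, fun y => ⟨0, Subsingleton.elim _ _⟩⟩⟩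

variable (A) in
/-- the group is of multiplicative type when a finite faithfully flat family splits the Hopf algebra -/
theorem locally_of_family {ι : Type u} [Finite ι] {T : ι → Type u} [∀ i, CommRing (T i)] [∀ i, Algebra R (T i)]
    (hflat : ∀ i, Module.Flat R (T i))
    (hsurj : ∀ p : PrimeSpectrum R, ∃ i, p ∈ Set.range (PrimeSpectrum.comap (algebraMap R (T i))))
    (hd : ∀ i, ∃ (M : Type) (_ : AddCommGroup M), AddGroup.FG M ∧
      Nonempty (T i ⊗[R] A ≃ₐc[T i] MonoidAlgebra (T i) (Multiplicative M))) :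
    SGA3x.IsMultTypeFT (P R A) := by
  choose M inst hfg e using hd
  let θ : ∀ i, Spec (CommRingCat.of (T i)) ⟶ Spec (CommRingCat.of R) :=
    fun i => Spec.map (CommRingCat.ofHom (algebraMap R (T i)))
  have hθ : ∀ i, Flat (θ i) := fun i => by
    rw [HasRingHomProperty.Spec_iff (P := @Flat)]
    exact RingHom.flat_algebraMap_iff.2 (hflat i)
  let f := Sigma.desc θ
  have : Flat f := IsZariskiLocalAtSource.sigmaDesc fun i => hθ i
  have hsurjf : Surjective f := ⟨fun x => by
    obtain ⟨i, q, hq⟩ := hsurj x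
    refine ⟨Sigma.ι (fun i => Spec (CommRingCat.of (T i))) i q, ?_⟩
    rw [← Scheme.Hom.comp_apply, Sigma.ι_desc]
    exact hq⟩
  have : QuasiCompact f := inferInstance
  refine ⟨_, f, inferInstance, hsurjf, fun V hV => ⟨f ⁻¹ᵁ V, f.isCompact_preimage hV.isCompact, ?_⟩, fun s => ?_⟩
  · exact Set.image_preimage_eq _ hsurjf.surj
  obtain ⟨i, w, hw⟩ := (sigmaOpenCover fun i => Spec (CommRingCat.of (T i))).exists_eq s
  let ι' := Sigma.ι (fun i => Spec (CommRingCat.of (T i))) i
  refine ⟨ι'.opensRange, ⟨w, hw⟩, M i, inst i, hfg i, ⟨?_⟩⟩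
  letI := inst i
  refine TrivLocus.restrictIso (θ i) ι'.isoOpensRange.inv (splitIso rfl (e i).some) ?_
  rw [show θ i = ι' ≫ f from (Sigma.ι_desc _ _).symm, Scheme.Hom.isoOpensRange_inv_comp_assoc]

variable (A) in
/-- a group of multiplicative type is split by a finite faithfully flat family -/
theorem exists_family_split
    (hH : TwC.Locally (Spec (CommRingCat.of R)) TwC.Topology.fpqc (fun S' f => ∃ (M : Type) (_ : AddCommGroup M),
      Nonempty (Grp.mk (Red.bc f (P R A)) ≅ Grp.mk (Red.DS S' M)))) :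
    ∃ (ι : Type u) (_ : Fintype ι) (T : ι → Type u) (_ : ∀ i, CommRing (T i)) (_ : ∀ i, Algebra R (T i)),
      Module.FaithfullyFlat R (∀ i, T i) ∧ ∀ i, SGA3b.IsDiag (T i) (T i ⊗[R] A) := by
  obtain ⟨S', f, hflat, hsurj, hqc, hloc⟩ := hH
  obtain ⟨W, hW, hWimg⟩ := hqc ⊤ (isAffineOpen_top _)
  choose U hU M inst e using hloc
  have key : ∀ z : S', ∃ D : S'.Opens, IsAffineOpen D ∧ z ∈ D ∧ D ≤ U z := by
    intro z
    obtain ⟨_, ⟨D, hD, rfl⟩, hz, hle⟩ := S'.isBasis_affineOpens.exists_subset_of_mem_open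
      (show z ∈ U z from hU z) (U z).2
    exact ⟨D, hD, hz, hle⟩
  choose D hD hzD hDle using key
  obtain ⟨t, ht⟩ := hW.elim_finite_subcover (fun z : S' => (D z : Set S')) (fun z => (D z).2)
    (fun z _ => Set.mem_iUnion.2 ⟨z, hzD z⟩)
  choose θ hθ using fun i : t => Spec.map_surjective ((hD i.1).fromSpec ≫ f)
  letI : ∀ i : t, Algebra R Γ(S', D i.1) := fun i => (θ i).hom.toAlgebra
  have hflat' : ∀ i : t, Module.Flat R Γ(S', D i.1) := fun i => by
    have h : Flat (Spec.map (θ i)) := by rw [hθ i]; infer_instance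
    rw [HasRingHomProperty.Spec_iff (P := @Flat)] at h
    exact h
  have : Module.Flat R (∀ i : t, Γ(S', D i.1)) :=
    Module.Flat.of_linearEquiv (DFinsupp.linearEquivFunOnFintype (R := R) (M := fun i : t => Γ(S', D i.1))).symm
  refine ⟨t, inferInstance, fun i => Γ(S', D i.1), fun _ => inferInstance, inferInstance, ?_, fun i => ?_⟩
  · refine Module.FaithfullyFlat.of_comap_surjective fun p => ?_
    obtain ⟨z, hz, hzp⟩ := hWimg.ge (Set.mem_univ p)
    obtain ⟨i, hi, hzi⟩ := Set.mem_iUnion₂.1 (ht hz)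
    obtain ⟨q, hq⟩ := (hD i).range_fromSpec.ge hzi
    have hq' : Spec.map (θ ⟨i, hi⟩) q = p := by
      rw [hθ ⟨i, hi⟩, Scheme.Hom.comp_apply, hq]
      exact hzp
    exact ⟨PrimeSpectrum.comap (Pi.evalRingHom (fun i : t => Γ(S', D i.1)) ⟨i, hi⟩) q,
      (PrimeSpectrum.comap_comp_apply (algebraMap R (∀ i : t, Γ(S', D i.1)))
        (Pi.evalRingHom (fun i : t => Γ(S', D i.1)) ⟨i, hi⟩) q).symm.trans hq'⟩
  · letI := inst i.1
    have hr : Set.range (hD i.1).fromSpec ⊆ Set.range (U i.1).ι := by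
      rw [Scheme.Opens.range_ι, (hD i.1).range_fromSpec]
      exact hDle i.1
    have e1 := TrivLocus.restrictIso ((U i.1).ι ≫ f) (IsOpenImmersion.lift _ _ hr) (e i.1).some
      (show IsOpenImmersion.lift _ _ hr ≫ (U i.1).ι ≫ f = Spec.map (θ i) by
        rw [IsOpenImmersion.lift_fac_assoc, hθ i])
    obtain ⟨φ⟩ := exists_split (R := R) (A := A) (C := Γ(S', D i.1)) rfl e1
    exact ⟨ULift.{u} (Multiplicative (M i.1)), inferInstance,
      ⟨φ.trans (MonoidAlgebra.domCongrBialgEquiv _ _ (MulEquiv.ulift (α := Multiplicative (M i.1))).symm)⟩⟩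

variable (A) in
/-- the Hopf algebra of a group of multiplicative type is of multiplicative type -/
theorem isMultType_of_locally
    (hH : TwC.Locally (Spec (CommRingCat.of R)) TwC.Topology.fpqc (fun S' f => ∃ (M : Type) (_ : AddCommGroup M),
      Nonempty (Grp.mk (Red.bc f (P R A)) ≅ Grp.mk (Red.DS S' M)))) :
    SGA3b.IsMultType R A := by
  obtain ⟨ι, _, T, _, _, hff, hd⟩ := exists_family_split A hH
  exact MultType.isMultType_of_family hff hd

theorem exists_fg_of_split [Algebra.FiniteType R A] {N : Type u} [CommGroup N]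
    (e : C ⊗[R] A ≃ₐc[C] MonoidAlgebra C N) :
    ∃ (M : Type) (_ : AddCommGroup M), AddGroup.FG M ∧
      Nonempty (C ⊗[R] A ≃ₐc[C] MonoidAlgebra C (Multiplicative M)) := by
  rcases subsingleton_or_nontrivial C with hC | hC
  · exact ⟨PUnit, inferInstance, inferInstance, bialgEquiv_of_subsingleton⟩
  · have : Algebra.FiniteType C (MonoidAlgebra C N) :=
      Algebra.FiniteType.equiv (inferInstance : Algebra.FiniteType C (C ⊗[R] A)) (e : _ ≃ₐ[C] _)
    have : Monoid.FG N := MonoidAlgebra.finiteType_iff_fg.1 this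
    obtain ⟨M, _, hfg, ⟨g⟩⟩ := exists_small N
    exact ⟨M, inferInstance, hfg, ⟨e.trans (MonoidAlgebra.domCongrBialgEquiv _ _ g.symm)⟩⟩

/-- a Hopf algebra of multiplicative type and of finite type gives a group of multiplicative type -/
theorem isMultTypeFT_of_isMultType [Algebra.FiniteType R A] (hA : SGA3b.IsMultType R A) :
    SGA3x.IsMultTypeFT (P R A) := by
  classical
  obtain ⟨ι, _, T, _, _, hff, hd⟩ := Char.exists_split_family hA
  have : ∀ i, Module.Flat R (T i) := fun i => Module.Flat.of_retract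
    ((LinearMap.single R T i)) (LinearMap.proj i) (LinearMap.proj_comp_single_same R T i)
  refine locally_of_family A (ι := ι) this (fun p => ?_) fun i => ?_
  · obtain ⟨w, hw⟩ := PrimeSpectrum.comap_surjective_of_faithfullyFlat (A := R) (B := ∀ i, T i) p
    obtain ⟨i, hi⟩ : ∃ i, (Pi.single i 1 : ∀ i, T i) ∉ w.asIdeal := by
      by_contra hcon
      push Not at hcon
      refine w.isPrime.ne_top (Ideal.eq_top_iff_one _ |>.2 ?_)
      rw [← Finset.univ_sum_single (1 : ∀ i, T i)]
      exact sum_mem fun i _ => hcon i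
    have hker : RingHom.ker (Pi.evalRingHom T i) ≤ w.asIdeal := fun x hx => by
      refine (w.isPrime.mem_or_mem ?_).resolve_left hi
      have : (Pi.single i 1 : ∀ i, T i) * x = 0 := by
        funext j
        rcases eq_or_ne j i with rfl | hj
        · simpa using hx
        · simp [Pi.single_eq_of_ne hj]
      rw [this]
      exact zero_mem _
    obtain ⟨w', hw'⟩ : w ∈ Set.range (PrimeSpectrum.comap (Pi.evalRingHom T i)) := by
      rw [range_comap_of_surjective _ _ (Function.surjective_eval i)]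
      exact hker
    exact ⟨i, w', by rw [← hw, ← hw', ← PrimeSpectrum.comap_comp_apply]; rfl⟩
  · obtain ⟨N, _, ⟨e⟩⟩ := hd i
    exact exists_fg_of_split e

theorem finiteType_of_quotient {I : Ideal R} (hI : IsNilpotent I)
    (h : Algebra.FiniteType (R ⧸ I) ((R ⧸ I) ⊗[R] A)) : Algebra.FiniteType R A := by
  classical
  obtain ⟨s, hs⟩ := h.out
  choose fs hfs using fun x : (R ⧸ I) ⊗[R] A => TensorProduct.exists_finset x
  let t : Finset A := s.biUnion fun x => (fs x).image Prod.snd
  let T : Subalgebra R A := Algebra.adjoin R (t : Set A)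
  have hgen : ∀ x ∈ s, x ∈ (Algebra.adjoin (R ⧸ I) ((fun a => (1 : R ⧸ I) ⊗ₜ[R] a) '' (t : Set A))) := by
    intro x hx
    rw [hfs x]
    refine Subalgebra.sum_mem _ fun p hp => ?_
    rw [show p.1 ⊗ₜ[R] p.2 = p.1 • ((1 : R ⧸ I) ⊗ₜ[R] p.2) by
      rw [TensorProduct.smul_tmul', smul_eq_mul, _root_.mul_one]]
    refine Subalgebra.smul_mem _ (Algebra.subset_adjoin (Set.mem_image_of_mem _ ?_)) _
    exact Finset.mem_biUnion.2 ⟨x, hx, Finset.mem_image.2 ⟨p, hp, rfl⟩⟩
  have hsub : ∀ y ∈ Algebra.adjoin (R ⧸ I) ((fun a => (1 : R ⧸ I) ⊗ₜ[R] a) '' (t : Set A)),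
      ∃ b ∈ T, (1 : R ⧸ I) ⊗ₜ[R] b = y := by
    intro y hy
    induction hy using Algebra.adjoin_induction with
    | mem y hy =>
      obtain ⟨a, ha, rfl⟩ := hy
      exact ⟨a, Algebra.subset_adjoin ha, rfl⟩
    | algebraMap r =>
      obtain ⟨r, rfl⟩ := Ideal.Quotient.mk_surjective r
      refine ⟨algebraMap R A r, T.algebraMap_mem r, ?_⟩
      rw [Algebra.TensorProduct.algebraMap_apply]
      exact (Algebra.TensorProduct.tmul_one_eq_one_tmul r).symm
    | add y z _ _ hy hz =>
      obtain ⟨a, ha, rfl⟩ := hy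
      obtain ⟨b, hb, rfl⟩ := hz
      exact ⟨a + b, T.add_mem ha hb, TensorProduct.tmul_add _ _ _⟩
    | mul y z _ _ hy hz =>
      obtain ⟨a, ha, rfl⟩ := hy
      obtain ⟨b, hb, rfl⟩ := hz
      exact ⟨a * b, T.mul_mem ha hb, by simp⟩
  have h1 : (⊤ : Submodule R A) ≤ Subalgebra.toSubmodule T ⊔ I • ⊤ := by
    intro a _
    obtain ⟨b, hb, hba⟩ := hsub ((1 : R ⧸ I) ⊗ₜ a)
      ((Algebra.adjoin_le fun x hx => hgen x hx) (hs ▸ Algebra.mem_top))
    have h2 : (1 : R ⧸ I) ⊗ₜ[R] (a - b) = 0 := by rw [TensorProduct.tmul_sub, hba, sub_self]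
    have h3 := congrArg (TensorProduct.quotTensorEquivQuotSMul A I) h2
    rw [map_zero, ← map_one (Ideal.Quotient.mk I), TensorProduct.quotTensorEquivQuotSMul_mk_tmul, one_smul,
      Submodule.Quotient.mk_eq_zero] at h3
    exact Submodule.mem_sup.2 ⟨b, hb, a - b, h3, add_sub_cancel b a⟩
  have key : ∀ n : ℕ, (⊤ : Submodule R A) ≤ Subalgebra.toSubmodule T ⊔ I ^ n • ⊤ := by
    intro n
    induction n with
    | zero => rw [pow_zero, Ideal.one_eq_top, Submodule.top_smul]; exact le_sup_right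
    | succ n ih =>
      refine ih.trans (sup_le le_sup_left ?_)
      refine (Submodule.smul_mono le_rfl h1).trans ?_
      rw [Submodule.smul_sup, ← Submodule.mul_smul, ← pow_succ]
      exact sup_le (le_sup_of_le_left Submodule.smul_le_right) le_sup_right
  obtain ⟨n, hn⟩ := hI
  have h4 := key n
  rw [hn, Ideal.zero_eq_bot, Submodule.bot_smul, sup_bot_eq] at h4
  exact ⟨⟨t, eq_top_iff.2 fun a _ => h4 Submodule.mem_top⟩⟩

end Groth.L25.Bridge
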