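import Groth.Agent.L25.Bridge.Lift
import Groth.Agent.L25.NilAction
import Groth.Agent.S1316

/-!
# Subgroups of multiplicative type of a smooth group lift along nilpotent ideals
-/

set_option autoImplicit false
universe u

open CategoryTheory CategoryTheory.Limits MonoidalCategory CartesianMonoidalCategory
open AlgebraicGeometry

set_option backward.isDefEq.respectTransparency.types false

noncomputable section

namespace Groth.L25.Bridge

variable {R : Type u} [CommRing R] {H G : Over (Spec (CommRingCat.of R))} [GrpObj H] [GrpObj G] {J : Ideal R}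

/-- the closed immersion -/
abbrev πJ (J : Ideal R) : Spec (CommRingCat.of (R ⧸ J)) ⟶ Spec (CommRingCat.of R) :=
  Spec.map (CommRingCat.ofHom (Ideal.Quotient.mk J))

theorem isThickening_πJ (hJ : IsNilpotent J) : MoreMor.IsThickening (πJ J) := by
  refine ⟨IsClosedImmersion.spec_of_surjective _ Ideal.Quotient.mk_surjective, ⟨fun p => ?_⟩⟩
  have hle : J ≤ p.asIdeal := fun x hx => by
    obtain ⟨n, hn⟩ := hJ
    refine p.isPrime.mem_of_pow_mem n ?_
    have h1 := Ideal.pow_mem_pow hx n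
    rw [hn, Ideal.zero_eq_bot, Ideal.mem_bot] at h1
    exact h1 ▸ zero_mem _
  have h2 : p ∈ Set.range (PrimeSpectrum.comap (Ideal.Quotient.mk J)) := by
    rw [range_comap_of_surjective _ _ Ideal.Quotient.mk_surjective, Ideal.mk_ker]
    exact hle
  exact h2

/-- homomorphisms from a group of multiplicative type into a smooth group lift -/
theorem exists_hom_over [Smooth G.hom] (hJ : IsNilpotent J)
    (hH : TwC.Locally (Spec (CommRingCat.of R)) TwC.Topology.fpqc (fun S' f => ∃ (M : Type) (_ : AddCommGroup M),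
      Nonempty (Grp.mk (Red.bc f H) ≅ Grp.mk (Red.DS S' M))))
    (f₀ : Red.bc (πJ J) H ⟶ Red.bc (πJ J) G) [IsMonHom f₀] :
    ∃ φ : H ⟶ G, IsMonHom φ ∧ (Over.pullback (πJ J)).map φ = f₀ := by
  let g₀ : H ⊗ Cocycle.Z J ⟶ G := Over.homMk (f₀.left ≫ pullback.fst G.hom (πJ J)) (by
    show (f₀.left ≫ pullback.fst G.hom (πJ J)) ≫ G.hom = pullback.fst H.hom (πJ J) ≫ H.hom
    rw [Category.assoc, pullback.condition, pullback.condition]
    exact (Category.assoc _ _ _).symm.trans (congrArg (· ≫ πJ J) (Over.w f₀)))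
  have hg₀ : HomSmooth.MulOn g₀ := by
    intro Y p a b
    let adj : Over.mk ((Over.mk p.left).hom ≫ πJ J) ⟶ Y := Over.homMk (𝟙 _) (by
      show 𝟙 _ ≫ Y.hom = p.left ≫ πJ J
      rw [Category.id_comp]
      exact (Over.w p).symm)
    have : IsIso adj.left := inferInstanceAs (IsIso (𝟙 Y.left))
    have : IsIso ((Over.forget _).map adj) := this
    have : IsIso adj := isIso_of_reflects_iso _ (Over.forget _)
    rw [← cancel_epi adj, MonObj.comp_mul]
    have key : ∀ c : Y ⟶ H, adj ≫ lift c p ≫ g₀ =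
        NilAction.toBase (πJ J) (NilAction.ofBase (πJ J) (adj ≫ c) ≫ f₀) := fun c => by
      apply Over.OverMorphism.ext
      show 𝟙 _ ≫ (lift c p).left ≫ f₀.left ≫ pullback.fst G.hom (πJ J) =
        ((NilAction.ofBase (πJ J) (adj ≫ c)).left ≫ f₀.left) ≫ pullback.fst G.hom (πJ J)
      rw [Category.id_comp, Category.assoc]
      congr 1
    rw [key, key, key, MonObj.comp_mul, ← NilAction.toBase_mul, ← MonObj.mul_comp]
    congr 2
    have h := NilAction.toBase_mul (πJ J) (NilAction.ofBase (πJ J) (adj ≫ a)) (NilAction.ofBase (πJ J) (adj ≫ b))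
    rw [NilAction.toBase_ofBase, NilAction.toBase_ofBase] at h
    rw [← h, NilAction.ofBase_toBase]
  obtain ⟨φ, hφm, hφ⟩ := HomSmooth.exists_hom_lift_smooth hH hJ g₀ hg₀
  refine ⟨φ, hφm, Over.OverMorphism.ext (pullback.hom_ext ?_ ?_)⟩
  · exact (pullback.lift_fst _ _ _).trans (congrArg (fun m => m.left) hφ)
  · exact (pullback.lift_snd _ _ _).trans (Over.w f₀).symm

omit [GrpObj H] [GrpObj G] in
/-- immersions are detected modulo a nilpotent ideal -/
theorem isImmersion_of_bc [LocallyOfFiniteType H.hom] [LocallyOfFiniteType G.hom] (hJ : IsNilpotent J)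
    (φ : H ⟶ G) (h : IsImmersion ((Over.pullback (πJ J)).map φ).left) : IsImmersion φ.left := by
  have : LocallyOfFiniteType φ.left := by
    have : LocallyOfFiniteType (φ.left ≫ G.hom) := by rw [Over.w φ]; infer_instance
    exact locallyOfFiniteType_of_comp φ.left G.hom
  let b := ((Over.pullback (πJ J)).map φ).left
  have sq : IsPullback (pullback.fst H.hom (πJ J)) b φ.left (pullback.fst G.hom (πJ J)) := by
    refine IsPullback.of_bot ?_ ?_ (IsPullback.of_hasPullback G.hom (πJ J))
    · rw [show b ≫ pullback.snd G.hom (πJ J) = pullback.snd H.hom (πJ J) from Over.w ((Over.pullback (πJ J)).map φ),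
        Over.w φ]
      exact IsPullback.of_hasPullback H.hom (πJ J)
    · exact (pullback.lift_fst _ _ _).symm
  have hth : MoreMor.IsThickening (pullback.fst G.hom (πJ J)) := by
    have h1 := (isThickening_πJ hJ).1
    have h2 := (isThickening_πJ hJ).2
    exact ⟨MorphismProperty.pullback_fst _ _ h1, MorphismProperty.pullback_fst _ _ h2⟩
  have : LocallyOfFiniteType b := MorphismProperty.of_isPullback sq inferInstance
  exact (Groth.Agent.S1316.result (pullback.fst H.hom (πJ J)) (pullback.fst G.hom (πJ J)) b φ.left hth sq).1 h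

theorem locally_of_ft {S : Scheme.{u}} {K : Over S} [GrpObj K] (hK : SGA3x.IsMultTypeFT K) :
    TwC.Locally S TwC.Topology.fpqc (fun S' f => ∃ (M : Type) (_ : AddCommGroup M),
      Nonempty (Grp.mk (Red.bc f K) ≅ Grp.mk (Red.DS S' M))) := by
  obtain ⟨S', f, hflat, hsurj, hqc, hloc⟩ := hK
  refine ⟨S', f, hflat, hsurj, hqc, fun s => ?_⟩
  obtain ⟨W, hsW, M, inst, -, hd⟩ := hloc s
  exact ⟨W, hsW, M, inst, hd⟩

/-- subgroups of multiplicative type lift -/
theorem exists_subgroup_lift [Smooth G.hom] (hJ : IsNilpotent J) (H₀ : Over (Spec (CommRingCat.of (R ⧸ J))))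
    [GrpObj H₀]
    (hH₀ : TwC.Locally (Spec (CommRingCat.of (R ⧸ J))) TwC.Topology.fpqc (fun S' f =>
      ∃ (M : Type) (_ : AddCommGroup M), Nonempty (Grp.mk (Red.bc f H₀) ≅ Grp.mk (Red.DS S' M))))
    (j₀ : H₀ ⟶ Red.bc (πJ J) G) [IsMonHom j₀] [IsImmersion j₀.left] :
    ∃ (H : Over (Spec (CommRingCat.of R))) (_ : GrpObj H) (j : H ⟶ G), IsMonHom j ∧ IsImmersion j.left ∧
      Flat H.hom ∧ SGA3x.IsMultTypeFT H ∧
      ∃ φ : Red.bc (πJ J) H ≅ H₀, IsMonHom φ.hom ∧ φ.hom ≫ j₀ = (Over.pullback (πJ J)).map j := by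
  have : LocallyOfFiniteType (Red.bc (πJ J) G).hom := MorphismProperty.pullback_snd G.hom (πJ J) inferInstance
  have : LocallyOfFiniteType H₀.hom := by
    rw [← Over.w j₀]
    infer_instance
  obtain ⟨H, _, hH, hflat, ⟨e⟩⟩ := exists_group_lift hJ H₀ hH₀
  let φ : Red.bc (πJ J) H ≅ H₀ := ⟨e.hom.hom.hom, e.inv.hom.hom, congr($(e.hom_inv_id).hom.hom),
    congr($(e.inv_hom_id).hom.hom)⟩
  have : IsMonHom φ.hom := e.hom.hom.isMonHom_hom
  obtain ⟨j, hjm, hj⟩ := exists_hom_over hJ (locally_of_ft hH) (φ.hom ≫ j₀)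
  have : LocallyOfFiniteType H.hom := TrivLocus.lft_of_multTypeFT hH
  refine ⟨H, inferInstance, j, hjm, isImmersion_of_bc hJ j ?_, hflat, hH, φ, inferInstance, hj.symm⟩
  have : IsIso φ.hom.left := inferInstanceAs (IsIso ((Over.forget _).map φ.hom))
  rw [hj, Over.comp_left]
  infer_instance

end Groth.L25.Bridge
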